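import Mathlib

set_option autoImplicit false

/-!
# S3814 team project (coordinator helper46): sub-lemma (SL3) `chain_trick`

`O` a `p`-subgroup normalized by `x` of order `p`, not centralized by `x`: there are `g, k ∈ O`,
`k ≠ 1`, with `g x g⁻¹ = k x`, `k x = x k`, `k ^ p = 1`.
-/

namespace Cfsg.Agent.Lib.Helper2.FP

universe u

variable {G : Type u} [Group G]

/-- In a finite group, `x O x⁻¹ ⊆ O` gives `x ∈ N(O)` (local copy). -/
theorem mem_normalizer_of_conj_mem' [Finite G] {W : Subgroup G} {x : G}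
    (h : ∀ w ∈ W, x * w * x⁻¹ ∈ W) : x ∈ Subgroup.normalizer (W : Set G) := by
  have hpow : ∀ i : ℕ, ∀ w ∈ W, x ^ i * w * (x ^ i)⁻¹ ∈ W := by
    intro i
    induction i with
    | zero => intro w hw; simpa using hw
    | succ i ih =>
      intro w hw
      have h1 := h _ (ih w hw)
      have e : x ^ (i + 1) * w * (x ^ (i + 1))⁻¹ = x * (x ^ i * w * (x ^ i)⁻¹) * x⁻¹ := by
        rw [pow_succ']; group
      rw [e]; exact h1
  rw [Subgroup.mem_normalizer_iff]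
  intro w
  constructor
  · exact h w
  · intro hw
    have h1 := hpow (orderOf x - 1) _ hw
    have h2 : x ^ (orderOf x - 1) = x⁻¹ := by
      rw [eq_inv_iff_mul_eq_one, ← pow_succ, Nat.sub_add_cancel (orderOf_pos x),
        pow_orderOf_eq_one]
    rw [h2] at h1
    have h3 : x⁻¹ * (x * w * x⁻¹) * x⁻¹⁻¹ = w := by group
    rw [h3] at h1
    exact h1

/-- (SL3) the chain trick. -/
theorem chain_trick [Finite G] (p : ℕ) (hp : p.Prime) (O : Subgroup G) (hO : IsPGroup p O)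
    (x : G) (hx : orderOf x = p) (hxO : ∀ o ∈ O, x * o * x⁻¹ ∈ O)
    (hnc : ∃ o ∈ O, x * o ≠ o * x) :
    ∃ g ∈ O, ∃ k ∈ O, k ≠ 1 ∧ g * x * g⁻¹ = k * x ∧ k * x = x * k ∧ k ^ p = 1 := by
  have : Fact p.Prime := ⟨hp⟩
  obtain ⟨o, hoO, hox⟩ := hnc
  have hxN : x ∈ Subgroup.normalizer (O : Set G) := mem_normalizer_of_conj_mem' hxO
  have hZ : IsPGroup p (Subgroup.zpowers x) := by
    apply IsPGroup.of_card (n := 1)
    rw [Nat.card_zpowers, hx, pow_one]
  have hHp : IsPGroup p (Subgroup.zpowers x ⊔ O : Subgroup G) :=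
    IsPGroup.to_sup_of_normal_right' hZ hO (by rw [Subgroup.zpowers_le]; exact hxN)
  obtain ⟨H, hHdef⟩ : ∃ H : Subgroup G, H = Subgroup.zpowers x ⊔ O := ⟨_, rfl⟩
  rw [← hHdef] at hHp
  have : Group.IsNilpotent H := hHp.isNilpotent
  obtain ⟨n, hn⟩ := (Subgroup.nilpotent_iff_lowerCentralSeries (G := H)).mp inferInstance
  have hxH : x ∈ H := by rw [hHdef]; exact Subgroup.mem_sup_left (Subgroup.mem_zpowers x)
  have hOH : O ≤ H := by rw [hHdef]; exact le_sup_right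
  -- the sequence
  obtain ⟨f, hf0, hfs⟩ : ∃ f : ℕ → G, f 0 = o ∧ ∀ i, f (i + 1) = f i * x * (f i)⁻¹ * x⁻¹ :=
    ⟨fun i => Nat.rec o (fun _ g => g * x * g⁻¹ * x⁻¹) i, rfl, fun _ => rfl⟩
  have hfO : ∀ i, f i ∈ O := by
    intro i
    induction i with
    | zero => rw [hf0]; exact hoO
    | succ i ih =>
      rw [hfs]
      have h1 : x * (f i)⁻¹ * x⁻¹ ∈ O := hxO _ (O.inv_mem ih)
      have h2 := O.mul_mem ih h1
      have e : f i * x * (f i)⁻¹ * x⁻¹ = f i * (x * (f i)⁻¹ * x⁻¹) := by group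
      rw [e]; exact h2
  have hfL : ∀ i, ∃ h : f i ∈ H, (⟨f i, h⟩ : H) ∈ (⊤ : Subgroup H).lowerCentralSeries i := by
    intro i
    induction i with
    | zero => exact ⟨hOH (hfO 0), by simp⟩
    | succ i ih =>
      obtain ⟨h, hmem⟩ := ih
      refine ⟨hOH (hfO _), ?_⟩
      rw [Subgroup.lowerCentralSeries_succ]
      have e : (⟨f (i + 1), hOH (hfO _)⟩ : ↥H) =
          (⟨f i, h⟩ : ↥H) * (⟨x, hxH⟩ : ↥H) * (⟨f i, h⟩ : ↥H)⁻¹ * (⟨x, hxH⟩ : ↥H)⁻¹ := by
        apply Subtype.ext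
        simp [hfs]
      rw [e, ← commutatorElement_def]
      exact Subgroup.commutator_mem_commutator hmem (Subgroup.mem_top _)
  have hfn : f n = 1 := by
    obtain ⟨h, hmem⟩ := hfL n
    rw [hn] at hmem
    have h1 := Subgroup.mem_bot.mp hmem
    exact congrArg Subtype.val h1
  classical
  have hex : ∃ n, f n = 1 := ⟨n, hfn⟩
  obtain ⟨m, hm1, hmin⟩ : ∃ m, f m = 1 ∧ ∀ i < m, f i ≠ 1 :=
    ⟨Nat.find hex, Nat.find_spec hex, fun i hi => Nat.find_min hex hi⟩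
  have comm_of : ∀ a : G, a * x * a⁻¹ * x⁻¹ = 1 → a * x = x * a := by
    intro a h
    have h1 : a * x * a⁻¹ * x⁻¹ * (x * a) = x * a := by rw [h, one_mul]
    have h2 : a * x * a⁻¹ * x⁻¹ * (x * a) = a * x := by group
    rw [← h2, h1]
  have h0 : f 0 ≠ 1 := by
    rw [hf0]; rintro rfl; exact hox (by simp)
  have h1 : f 1 ≠ 1 := by
    intro h
    have h' : f 0 * x * (f 0)⁻¹ * x⁻¹ = 1 := by rw [← hfs 0]; exact h
    rw [hf0] at h'
    exact hox (comm_of o h').symm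
  have hm2 : 2 ≤ m := by
    rcases m with _ | _ | m
    · exact absurd hm1 h0
    · exact absurd hm1 h1
    · omega
  obtain ⟨j, rfl⟩ : ∃ j, m = j + 2 := ⟨m - 2, by omega⟩
  have hk1 : f (j + 1) ≠ 1 := hmin (j + 1) (by omega)
  have hkx : f (j + 1) * x = x * f (j + 1) := by
    apply comm_of
    rw [← hfs (j + 1)]; exact hm1
  have hgk : f j * x * (f j)⁻¹ = f (j + 1) * x := by
    rw [hfs j]; group
  refine ⟨f j, hfO j, f (j + 1), hfO (j + 1), hk1, hgk, hkx, ?_⟩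
  have hxp : x ^ p = 1 := by rw [← hx]; exact pow_orderOf_eq_one x
  have h3 : (f j * x * (f j)⁻¹) ^ p = 1 := by
    rw [conj_pow, hxp]; group
  rw [hgk, (show Commute (f (j + 1)) x from hkx).mul_pow, hxp, mul_one] at h3
  exact h3

end Cfsg.Agent.Lib.Helper2.FP
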